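import Groth.Agent.Lib.SchDesc12.Effective
import Groth.Agent.Lib.AlgGrpBasic19.Basic
import Groth.Agent.Lib.FpqcDesc.Basic
import Groth.Agent.Lib.PerfProd19.Basic
import Groth.Agent.Lib.H12.FlatComp
import Mathlib.AlgebraicGeometry.Morphisms.LocalFlatDescent

/-!
# Associated bundles with affine fibre of principal bundles

For a principal `G`-bundle `f : X ⟶ Y` and an affine scheme `Z` with a `G`-action, the descent datum
on `X ⊗ Z` over `X` given by the diagonal action is effective.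
-/

set_option autoImplicit false
set_option linter.style.haveILetI false
set_option backward.isDefEq.respectTransparency.types false

universe u

open CategoryTheory Limits MonoidalCategory CartesianMonoidalCategory MonObj AlgebraicGeometry

namespace Groth.Agent.AssocBdl21

open Groth.Agent.AlgGrpBasic19

variable {S : Scheme.{u}} {G X Y Z : Over S} [GrpObj G]

/-- The diagonal action on a product, as a morphism. -/
noncomputable def diag (a : AlgGrp.Action G X) (b : AlgGrp.Action G Z) : G ⊗ (X ⊗ Z) ⟶ X ⊗ Z :=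
  lift ((G ◁ fst X Z) ≫ a.act) ((G ◁ snd X Z) ≫ b.act)

theorem lift_diag (a : AlgGrp.Action G X) (b : AlgGrp.Action G Z) {T : Over S} (g : T ⟶ G)
    (p : T ⟶ X ⊗ Z) :
    lift g p ≫ diag a b = lift (lift g (p ≫ fst X Z) ≫ a.act) (lift g (p ≫ snd X Z) ≫ b.act) := by
  simp only [diag, comp_lift, lift_whiskerLeft_assoc]

theorem diag_mul (a : AlgGrp.Action G X) (b : AlgGrp.Action G Z) {T : Over S} (g g' : T ⟶ G)
    (p : T ⟶ X ⊗ Z) :
    lift (g * g') p ≫ diag a b = lift g (lift g' p ≫ diag a b) ≫ diag a b := by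
  rw [lift_diag, lift_diag a b g (lift g' p ≫ diag a b), lift_diag a b g' p, lift_fst, lift_snd,
    act_mul, act_mul]

theorem diag_one (a : AlgGrp.Action G X) (b : AlgGrp.Action G Z) {T : Over S}
    (p : T ⟶ X ⊗ Z) : lift (1 : T ⟶ G) p ≫ diag a b = p := by
  rw [lift_diag, act_one, act_one]
  exact CartesianMonoidalCategory.hom_ext _ _ (by simp) (by simp)

/-- For a principal bundle `f`, the diagonal action identifies `G ⊗ (X ⊗ Z)` with
`X ×_Y (X ⊗ Z)`. -/
theorem isPullback_diag (a : AlgGrp.Action G X) (b : AlgGrp.Action G Z) (f : X ⟶ Y)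
    (hsq : IsPullback a.act.left (snd G X).left f.left f.left) :
    IsPullback (diag a b ≫ fst X Z).left (snd G (X ⊗ Z)).left f.left (fst X Z ≫ f).left := by
  have hfst : diag a b ≫ fst X Z = (G ◁ fst X Z) ≫ a.act := lift_fst _ _
  have hw : (diag a b ≫ fst X Z).left ≫ f.left = (snd G (X ⊗ Z)).left ≫ (fst X Z ≫ f).left := by
    have h0 : a.act ≫ f = snd G X ≫ f := Over.OverMorphism.ext (by simpa using hsq.w)
    rw [← Over.comp_left, ← Over.comp_left, hfst, Category.assoc, h0, whiskerLeft_snd_assoc]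
  have key : ∀ s : PullbackCone f.left (fst X Z ≫ f).left,
      ∃ l, l ≫ (diag a b ≫ fst X Z).left = s.fst ∧ l ≫ (snd G (X ⊗ Z)).left = s.snd := by
    intro s
    let T : Over S := Over.mk (s.snd ≫ (X ⊗ Z).hom)
    let V : T ⟶ X ⊗ Z := Over.homMk s.snd rfl
    have hc : s.fst ≫ f.left = (V ≫ fst X Z).left ≫ f.left :=
      s.condition.trans (show s.snd ≫ (fst X Z).left ≫ f.left = _ from (Category.assoc _ _ _).symm)
    let L : T ⟶ G ⊗ X := Over.homMk (hsq.lift s.fst (V ≫ fst X Z).left hc) (by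
      rw [← Over.w (snd G X), IsPullback.lift_snd_assoc]
      exact Over.w (V ≫ fst X Z))
    refine ⟨(lift (L ≫ fst G X) V).left, ?_, ?_⟩
    · rw [← Over.comp_left, ← Category.assoc, lift_diag, lift_fst]
      have hL : lift (L ≫ fst G X) (V ≫ fst X Z) = L := CartesianMonoidalCategory.hom_ext _ _ (by simp)
        (by
          rw [lift_snd]
          exact Over.OverMorphism.ext (hsq.lift_snd s.fst (V ≫ fst X Z).left hc).symm)
      rw [hL]
      exact hsq.lift_fst s.fst (V ≫ fst X Z).left hc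
    · rw [← Over.comp_left, lift_snd]; rfl
  have uniq : ∀ (T : Scheme.{u}) (m m' : T ⟶ (G ⊗ (X ⊗ Z)).left),
      m ≫ (diag a b ≫ fst X Z).left = m' ≫ (diag a b ≫ fst X Z).left →
      m ≫ (snd G (X ⊗ Z)).left = m' ≫ (snd G (X ⊗ Z)).left → m = m' := by
    intro T m m' h1 h2
    let T' : Over S := Over.mk (m ≫ (G ⊗ (X ⊗ Z)).hom)
    let M : T' ⟶ G ⊗ (X ⊗ Z) := Over.homMk m rfl
    let M' : T' ⟶ G ⊗ (X ⊗ Z) := Over.homMk m' (by
      show _ = m ≫ _
      rw [← Over.w (snd G (X ⊗ Z)), reassoc_of% h2])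
    have h2' : M ≫ snd G (X ⊗ Z) = M' ≫ snd G (X ⊗ Z) := Over.OverMorphism.ext h2
    have h1' : M ≫ (G ◁ fst X Z) ≫ a.act = M' ≫ (G ◁ fst X Z) ≫ a.act := by
      rw [← hfst]; exact Over.OverMorphism.ext h1
    have hr : M ≫ (G ◁ fst X Z) = M' ≫ (G ◁ fst X Z) := by
      refine Over.OverMorphism.ext (hsq.hom_ext ?_ ?_)
      · have := congrArg CommaMorphism.left h1'; simpa using this
      · have := congrArg CommaMorphism.left (show (M ≫ (G ◁ fst X Z)) ≫ snd G X =
          (M' ≫ (G ◁ fst X Z)) ≫ snd G X by simp only [Category.assoc, whiskerLeft_snd, reassoc_of% h2'])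
        simpa using this
    have hM : M = M' := by
      refine CartesianMonoidalCategory.hom_ext _ _ ?_ h2'
      have := congrArg (fun q => q ≫ fst G X) hr
      simpa only [Category.assoc, whiskerLeft_fst] using this
    exact congrArg CommaMorphism.left hM
  choose l hl₁ hl₂ using key
  exact ⟨⟨hw⟩, ⟨PullbackCone.IsLimit.mk hw l hl₁ hl₂
    fun s m h1 h2 => uniq _ _ _ (h1.trans (hl₁ s).symm) (h2.trans (hl₂ s).symm)⟩⟩

variable (a : AlgGrp.Action G X) (b : AlgGrp.Action G Z) (f : X ⟶ Y)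
  (hsq : IsPullback a.act.left (snd G X).left f.left f.left)

include hsq in
/-- The point `(g · v)` where `g` is the unique group element moving the base of `v` to `x₁`. -/
noncomputable def move {T : Scheme.{u}} (x₁ : T ⟶ X.left) (v : T ⟶ (X ⊗ Z).left)
    (h : x₁ ≫ f.left = v ≫ (fst X Z ≫ f).left) : T ⟶ (X ⊗ Z).left :=
  (isPullback_diag a b f hsq).lift x₁ v h ≫ (diag a b).left

theorem move_fst {T : Scheme.{u}} (x₁ : T ⟶ X.left) (v : T ⟶ (X ⊗ Z).left)
    (h : x₁ ≫ f.left = v ≫ (fst X Z ≫ f).left) :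
    move a b f hsq x₁ v h ≫ (fst X Z).left = x₁ := by
  rw [move, Category.assoc, ← Over.comp_left]
  exact (isPullback_diag a b f hsq).lift_fst x₁ v h

theorem move_natural {T T' : Scheme.{u}} (c : T' ⟶ T) (x₁ : T ⟶ X.left) (v : T ⟶ (X ⊗ Z).left)
    (h : x₁ ≫ f.left = v ≫ (fst X Z ≫ f).left) (y₁ : T' ⟶ X.left) (w : T' ⟶ (X ⊗ Z).left)
    (h' : y₁ ≫ f.left = w ≫ (fst X Z ≫ f).left) (e₁ : c ≫ x₁ = y₁) (e₂ : c ≫ v = w) :
    move a b f hsq y₁ w h' = c ≫ move a b f hsq x₁ v h := by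
  rw [move, move, ← Category.assoc]
  congr 1
  exact (isPullback_diag a b f hsq).hom_ext (by simp [e₁]) (by simp [e₂])

theorem move_self {T : Scheme.{u}} (x : T ⟶ X.left) (v : T ⟶ (X ⊗ Z).left)
    (h : x ≫ f.left = v ≫ (fst X Z ≫ f).left) (hx : v ≫ (fst X Z).left = x) :
    move a b f hsq x v h = v := by
  have e : lift (1 : X ⊗ Z ⟶ G) (𝟙 (X ⊗ Z)) ≫ diag a b = 𝟙 _ := diag_one a b _
  have e2 : lift (1 : X ⊗ Z ⟶ G) (𝟙 (X ⊗ Z)) ≫ snd G (X ⊗ Z) = 𝟙 _ := lift_snd _ _
  have key : (isPullback_diag a b f hsq).lift x v h = v ≫ (lift (1 : X ⊗ Z ⟶ G) (𝟙 (X ⊗ Z))).left := by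
    refine (isPullback_diag a b f hsq).hom_ext ?_ ?_
    · rw [IsPullback.lift_fst, Category.assoc, ← Over.comp_left, reassoc_of% e]
      exact hx.symm
    · rw [IsPullback.lift_snd, Category.assoc, ← Over.comp_left, e2, Over.id_left, Category.comp_id]
  rw [move, key, Category.assoc, ← Over.comp_left, e, Over.id_left, Category.comp_id]

theorem move_move {T : Scheme.{u}} (x₁ x₂ : T ⟶ X.left) (v : T ⟶ (X ⊗ Z).left)
    (h : x₁ ≫ f.left = v ≫ (fst X Z ≫ f).left)
    (h' : x₂ ≫ f.left = move a b f hsq x₁ v h ≫ (fst X Z ≫ f).left)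
    (h'' : x₂ ≫ f.left = v ≫ (fst X Z ≫ f).left) :
    move a b f hsq x₂ (move a b f hsq x₁ v h) h' = move a b f hsq x₂ v h'' := by
  let Q := isPullback_diag a b f hsq
  let T' : Over S := Over.mk (v ≫ (X ⊗ Z).hom)
  let V : T' ⟶ X ⊗ Z := Over.homMk v rfl
  let A : T' ⟶ G ⊗ (X ⊗ Z) := Over.homMk (Q.lift x₁ v h) (by
    rw [← Over.w (snd G (X ⊗ Z)), Q.lift_snd_assoc]; rfl)
  let B : T' ⟶ G ⊗ (X ⊗ Z) := Over.homMk (Q.lift x₂ (A ≫ diag a b).left h') (by
    rw [← Over.w (snd G (X ⊗ Z)), Q.lift_snd_assoc]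
    exact Over.w (A ≫ diag a b))
  have hA : A = lift (A ≫ fst G _) V := CartesianMonoidalCategory.hom_ext _ _ (by simp)
    (by rw [lift_snd]; exact Over.OverMorphism.ext (Q.lift_snd x₁ v h))
  have hB : B = lift (B ≫ fst G _) (A ≫ diag a b) := CartesianMonoidalCategory.hom_ext _ _ (by simp)
    (by rw [lift_snd]; exact Over.OverMorphism.ext (Q.lift_snd x₂ _ h'))
  let W : T' ⟶ G ⊗ (X ⊗ Z) := lift (B ≫ fst G _ * (A ≫ fst G _)) V
  have hW : W ≫ diag a b = B ≫ diag a b := by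
    rw [diag_mul, ← hA, ← hB]
  have key : Q.lift x₂ v h'' = W.left := by
    refine Q.hom_ext ?_ ?_
    · rw [Q.lift_fst, ← Over.comp_left, ← Category.assoc, hW, Category.assoc]
      exact (Q.lift_fst x₂ (A ≫ diag a b).left h').symm
    · rw [Q.lift_snd, ← Over.comp_left, lift_snd]; rfl
  show B.left ≫ (diag a b).left = Q.lift x₂ v h'' ≫ (diag a b).left
  rw [key, ← Over.comp_left, ← Over.comp_left, hW]

theorem comp_fst_f {T : Scheme.{u}} {x₀ x₁ : T ⟶ X.left} (h : x₀ ≫ f.left = x₁ ≫ f.left)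
    (v : T ⟶ (X ⊗ Z).left) (hv : v ≫ (fst X Z).left = x₀) :
    x₁ ≫ f.left = v ≫ (fst X Z ≫ f).left := by
  rw [Over.comp_left, reassoc_of% hv, h]

/-- The descent datum of the associated bundle. -/
noncomputable def dd : Desc.SchDDFam (fun _ : PUnit.{u + 1} => f.left) where
  obj _ := Over.mk (fst X Z).left
  φ _ _ _ x₀ x₁ h :=
    { toFun := fun v => ⟨move a b f hsq x₁ v.1 (comp_fst_f f h v.1 v.2), move_fst a b f hsq _ _ _⟩
      invFun := fun v =>
        ⟨move a b f hsq x₀ v.1 (comp_fst_f f h.symm v.1 v.2), move_fst a b f hsq _ _ _⟩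
      left_inv := fun v => Subtype.ext (by
        dsimp only
        rw [move_move a b f hsq x₁ x₀ v.1 _ _ (comp_fst_f f rfl v.1 v.2)]
        exact move_self a b f hsq _ _ _ v.2)
      right_inv := fun v => Subtype.ext (by
        dsimp only
        rw [move_move a b f hsq x₀ x₁ v.1 _ _ (comp_fst_f f rfl v.1 v.2)]
        exact move_self a b f hsq _ _ _ v.2) }
  φ_natural T T' c i j x₀ x₁ h y₀ y₁ _ hy₁ h' v v' hv' :=
    move_natural a b f hsq c x₁ v.1 (comp_fst_f f h v.1 v.2) y₁ v'.1 (comp_fst_f f h' v'.1 v'.2)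
      hy₁ hv'.symm
  φ_self T i x v := Subtype.ext (move_self a b f hsq _ _ _ v.2)
  φ_comp T i j l x₀ x₁ x₂ h₀₁ h₁₂ v :=
    Subtype.ext (move_move a b f hsq x₁ x₂ v.1 _ _ (comp_fst_f f (h₀₁.trans h₁₂) v.1 v.2))

include hsq in
/-- The associated bundle of an affine fibre exists. -/
theorem exists_bundle [IsAffineHom Z.hom] [Flat f.left] [Surjective f.left] [QuasiCompact f.left] :
    ∃ (W : Over S) (φ : X ⊗ Z ⟶ W) (ψ : W ⟶ Y), IsAffineHom ψ.left ∧
      diag a b ≫ φ = snd G (X ⊗ Z) ≫ φ ∧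
      IsPullback (fst X Z).left φ.left f.left ψ.left := by
  have haff : IsAffineHom (fst X Z).left := by
    show IsAffineHom (pullback.fst X.hom Z.hom)
    exact MorphismProperty.pullback_fst (P := @IsAffineHom) _ _ inferInstance
  obtain ⟨U, ⟨e⟩⟩ := SchDesc12.isEffective_of_isAffineHom (D := dd a b f hsq)
    (SchDesc12.single_mem_fpqc f.left) (fun _ => haff)
  let i : (X ⊗ Z).left ⟶ pullback f.left U.hom := (e.inv.hom PUnit.unit).left
  have hi : IsIso i := by
    refine ⟨(e.hom.hom PUnit.unit).left, ?_, ?_⟩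
    · exact congrArg (fun m : dd a b f hsq ⟶ dd a b f hsq => (m.hom PUnit.unit).left) e.inv_hom_id
    · exact congrArg (fun m : (Desc.toDDFam _).obj U ⟶ (Desc.toDDFam _).obj U =>
        (m.hom PUnit.unit).left) e.hom_inv_id
  have hi1 : i ≫ pullback.fst f.left U.hom = (fst X Z).left := Over.w (e.inv.hom PUnit.unit)
  have hcond : i ≫ pullback.snd f.left U.hom ≫ U.hom ≫ Y.hom = (X ⊗ Z).hom := by
    rw [← pullback.condition_assoc, ← Category.assoc, hi1, Over.w f, Over.w (fst X Z)]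
  let W : Over S := Over.mk (U.hom ≫ Y.hom)
  let φ : X ⊗ Z ⟶ W := Over.homMk (i ≫ pullback.snd f.left U.hom) (by
    show _ ≫ U.hom ≫ Y.hom = _
    rw [Category.assoc]; exact hcond)
  let ψ : W ⟶ Y := Over.homMk U.hom rfl
  have hpb : IsPullback (fst X Z).left φ.left f.left ψ.left :=
    IsPullback.of_iso (IsPullback.of_hasPullback f.left U.hom) (asIso i).symm (Iso.refl _)
      (Iso.refl _) (Iso.refl _) (by simp [← hi1]) (by simp [φ]) (by simp) (by simp [ψ])
  refine ⟨W, φ, ψ, ?_, ?_, hpb⟩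
  · have := FpqcDesc.descendsAlong_isAffineHom.{u}
    exact MorphismProperty.of_isPullback_of_descendsAlong (P := @IsAffineHom) hpb
      (show (@Surjective ⊓ @Flat ⊓ @QuasiCompact : MorphismProperty Scheme.{u}) f.left from
        ⟨⟨inferInstance, inferInstance⟩, inferInstance⟩) haff
  · apply Over.OverMorphism.ext
    let T := (G ⊗ (X ⊗ Z)).left
    let v : T ⟶ (X ⊗ Z).left := (snd G (X ⊗ Z)).left
    let x₁ : T ⟶ X.left := (diag a b ≫ fst X Z).left
    have h : (v ≫ (fst X Z).left) ≫ f.left = x₁ ≫ f.left := by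
      rw [Category.assoc, ← Over.comp_left]
      exact (isPullback_diag a b f hsq).w.symm
    have hmove : move a b f hsq x₁ v (comp_fst_f f h v rfl) = (diag a b).left := by
      have hl : (isPullback_diag a b f hsq).lift x₁ v (comp_fst_f f h v rfl) = 𝟙 _ :=
        (isPullback_diag a b f hsq).hom_ext (by rw [IsPullback.lift_fst, Category.id_comp])
          (by rw [IsPullback.lift_snd, Category.id_comp])
      rw [move, hl, Category.id_comp]
    have hcomm := (e.inv.comm (i := PUnit.unit) (j := PUnit.unit) (v ≫ (fst X Z).left) x₁ h ⟨v, rfl⟩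
      (Desc.SchDDFam.Hom.push e.inv ⟨v, rfl⟩) rfl)
    have hcomm' := congrArg (fun m => m ≫ pullback.snd f.left U.hom) hcomm
    simp only [Over.comp_left]
    show (diag a b).left ≫ i ≫ pullback.snd f.left U.hom = v ≫ i ≫ pullback.snd f.left U.hom
    rw [← hmove]
    refine Eq.trans (Category.assoc _ _ _).symm (hcomm'.symm.trans ?_)
    exact (pullback.lift_snd _ _ _).trans (Category.assoc _ _ _)

end Groth.Agent.AssocBdl21
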